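import Mathlib
import Cfsg.Agent.Lib.helper15.St2
import Cfsg.Agent.Lib.helper3.STC.Defs
import Cfsg.Agent.Lib.helper3.STC.Defs2
import Cfsg.Agent.Lib.helper3.STC.Defs3
import Cfsg.Agent.Lib.Lead.STD.Defs
import Cfsg.Agent.Lib.Lead.STB.Defs
import Cfsg.Agent.Lib.Helper22.SU4.Defs

/-!
# ST2: abstract Steinberg systems of twisted type `²D_l` (definitions).  Project family for S2099 (designer helper24).

PORT of the lead's type `B` library STB (`Cfsg.Agent.Lib.Lead.STB`) to the twisted type `²D_l` (relative root system `B_{l-1}`).  `K` is the small field (`q` elements), `E` the quadratic extension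
(`q²` elements), bundled in `D : Tw E K` of helper22 (`Cfsg.Agent.Lib.Helper22.SU4.Tw`: `D.σ : E →+* E` the involution, `D.ι : K →+* E`, `D.nm : E → K` with `ι (nm u) = u * σ u`,
`D.tr : E → K` with `ι (tr u) = u + σ u`).  Signed indices `ι ⊕ ι`, `ng`, `ab`, `sws`, `Em` are those of helper3's STC, `Td`, `SysD`, `dwd` those of the lead's STD, `swb` that of STB.

The quadratic form is `Q(v) = Σ_i v (inl i) * v (inr i) + N(v_W)` on `(l ⊕ l) ⊕ Fin 2 → K` (`Cfsg.quadFormMinus`), `N(z₀, z₁) = z₀² + a₀ z₀ z₁ + b₀ z₁²` ANISOTROPIC, and `W = K²` is identified with `E`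
through coordinates `C : Co D a₀ b₀` (`u ↦ (C.c0 u, C.c1 u)`, `N(c0 u, c1 u) = nm u`, so the polar form is `B(u, v) = tr (u * σ v)`).
* LONG roots `e_a - e_b` (`a ≠ b`, `a ≠ ng b`), parameter `t : K`: `T2L a b t = 1 + t E_{a,b} - t E_{-b,-a}` (identity on `W`).  The long root elements of a `Sys2` form a `SysD` (`Sys2.toSysD`): ALL of STD applies.
* SHORT roots `e_a`, parameter `u : E`: the Eichler transformation `v ↦ v + v_{-a} u - B(v_W, u) e_a - N(u) v_{-a} e_a` (`T2S`).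
Relations (all checked numerically over `ℚ(ω)`, `scratch/d2/rel.py`, `rel2.py` of helper24; NO index-dependent signs):
  `[xs a t, xs b u] = x a (ng b) (-tr (t * σ u))`, `[x a b t, xs b u] = xs a (ι t * u) * x a (ng b) (t * nm u)`, `xs a` commutes with `x c d` unless `d = a` or `c = ng a`,
  the short Weyl element `ws a t = xs a t * xs (ng a) (σ t)⁻¹ * xs a t` is monomial: `e_a ↦ -(nm t)⁻¹ e_{-a}`, `e_{-a} ↦ -(nm t) e_a`, and on `W = E` it is the reflection `v ↦ -(t / σ t) * σ v`;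
  `cj (ws a t) (xs a u) = xs (ng a) (σ (t⁻² u))`.  So `X t = xs a t`, `Y t = xs (ng a) (-σ t)` is a rank one system `St E G` of helper15 OVER `E` (`Sys2.sts`): the group `⟨xs a, xs (ng a)⟩` is a quotient of `SL₂(E)`.
NEW compared with type `B`: a monomial element acts on `W = E` by `v ↦ d0 * v` or `v ↦ d0 * σ v` with `d0 * σ d0 = 1` (the isometries of the norm form), so `IsMon` carries `d0 : E` and a flag `ε : Bool` (`tw D ε`).
-/

set_option autoImplicit false

namespace Cfsg.Agent.Lib.Helper24.ST2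

open Cfsg.Agent.Lib.helper15.St2 Cfsg.Agent.Lib.helper3.STC Cfsg.Agent.Lib.Lead.STD Cfsg.Agent.Lib.Lead.STB Cfsg.Agent.Lib.Helper22.SU4

universe u

/-- the index type of the natural module: the signed indices, then the two coordinates of the anisotropic plane -/
abbrev Ix2 (l : Type*) := (l ⊕ l) ⊕ Fin 2

/-- The long root element `1 + t E_{a,b} - t E_{-b,-a}` (`a ≠ b`, `a ≠ ng b`). -/
def T2L {l : Type*} [DecidableEq l] {K : Type*} [Field K] (a b : l ⊕ l) (t : K) : Matrix (Ix2 l) (Ix2 l) K :=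
  1 + Matrix.single (Sum.inl a) (Sum.inl b) t - Matrix.single (Sum.inl (ng b)) (Sum.inl (ng a)) t

/-- The short root element attached to the vector `(z0, z1)` of the anisotropic plane (`N(z0, z1) = z0² + a₀ z0 z1 + b₀ z1²`):
`v ↦ v + v_{-a} (z0, z1) - B(v_W, (z0, z1)) e_a - N(z0, z1) v_{-a} e_a`. -/
def T2S {l : Type*} [DecidableEq l] {K : Type*} [Field K] (a₀ b₀ : K) (a : l ⊕ l) (z0 z1 : K) : Matrix (Ix2 l) (Ix2 l) K :=
  1 + Matrix.single (Sum.inr 0) (Sum.inl (ng a)) z0 + Matrix.single (Sum.inr 1) (Sum.inl (ng a)) z1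
    - Matrix.single (Sum.inl a) (Sum.inr 0) (2 * z0 + a₀ * z1) - Matrix.single (Sum.inl a) (Sum.inr 1) (a₀ * z0 + 2 * b₀ * z1)
    - Matrix.single (Sum.inl a) (Sum.inl (ng a)) (z0 ^ 2 + a₀ * z0 * z1 + b₀ * z1 ^ 2)

/-- The Gram matrix of the polar form of `Σ_i v (inl i) * v (inr i) + z₀² + a₀ z₀ z₁ + b₀ z₁²`. -/
def J2 {l : Type*} [DecidableEq l] {K : Type*} [Field K] (a₀ b₀ : K) : Matrix (Ix2 l) (Ix2 l) K :=
  fun x y => match x, y with
    | Sum.inl a, Sum.inl b => if b = ng a then 1 else 0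
    | Sum.inr i, Sum.inr j => if i = 0 then (if j = 0 then 2 else a₀) else (if j = 0 then a₀ else 2 * b₀)
    | _, _ => 0

/-- Coordinates of `E` over `K` in which the norm is the binary form `z₀² + a₀ z₀ z₁ + b₀ z₁²`. -/
structure Co {E K : Type u} [Field E] [Field K] (D : Tw E K) (a₀ b₀ : K) where
  c0 : E → K
  c1 : E → K
  add0 : ∀ u v, c0 (u + v) = c0 u + c0 v
  add1 : ∀ u v, c1 (u + v) = c1 u + c1 v
  smul0 : ∀ (t : K) u, c0 (D.ι t * u) = t * c0 u
  smul1 : ∀ (t : K) u, c1 (D.ι t * u) = t * c1 u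
  hnm : ∀ u, D.nm u = c0 u ^ 2 + a₀ * c0 u * c1 u + b₀ * c1 u ^ 2
  surj : ∀ z0 z1 : K, ∃ u, c0 u = z0 ∧ c1 u = z1

/-- the action of the flag `ε` on `E`: `σ` if `ε`, the identity otherwise -/
def tw {E K : Type u} [Field E] [Field K] (D : Tw E K) (ε : Bool) (t : E) : E := if ε then D.σ t else t

/-- An abstract Steinberg system of type `²D` on the index type `ι` in the group `G`: a system of type `D` over `K` (the long roots) together with the short root elements `xs a u`, `u : E`. -/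
structure Sys2 {E K : Type u} [Field E] [Field K] (D : Tw E K) (ι : Type*) (G : Type*) [Group G] extends SysD K ι G where
  xs : ι ⊕ ι → E → G
  adds : ∀ a t u, xs a t * xs a u = xs a (t + u)
  comm_ls : ∀ a c d, c ≠ d → c ≠ ng d → d ≠ a → c ≠ ng a → ∀ t u, xs a t * x c d u = x c d u * xs a t
  ls : ∀ a b, a ≠ b → a ≠ ng b → ∀ (t : K) (u : E),
    x a b t * xs b u * (x a b t)⁻¹ * (xs b u)⁻¹ = xs a (D.ι t * u) * x a (ng b) (t * D.nm u)
  ss : ∀ a b, a ≠ b → a ≠ ng b → ∀ t u : E,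
    xs a t * xs b u * (xs a t)⁻¹ * (xs b u)⁻¹ = x a (ng b) (-(D.tr (t * D.σ u)))
  rels : ∀ a (t u : E), t ≠ 0 → cj (xs a t * xs (ng a) (D.σ t)⁻¹ * xs a t) (xs a u) = xs (ng a) (D.σ (t⁻¹ ^ 2 * u))

namespace Sys2

variable {E K : Type u} [Field E] [Field K] {D : Tw E K} {ι : Type*} {G : Type*} [Group G] (S : Sys2 D ι G)

/-- The long Weyl element `w_ab(t)` (that of the underlying `SysD`). -/
abbrev w (a b : ι ⊕ ι) (t : K) : G := S.toSysD.w a b t

/-- The long torus element `h_ab(t)` (that of the underlying `SysD`). -/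
abbrev h (a b : ι ⊕ ι) (t : K) : G := S.toSysD.h a b t

/-- The short Weyl element `ws a t = xs a t * xs (ng a) (σ t)⁻¹ * xs a t`: `e_a ↦ -(nm t)⁻¹ e_{-a}`, `e_{-a} ↦ -(nm t) e_a`, `v ↦ -(t / σ t) σ v` on `W = E`. -/
def ws (a : ι ⊕ ι) (t : E) : G := S.xs a t * S.xs (ng a) (D.σ t)⁻¹ * S.xs a t

/-- The short torus element `hs a t = ws a t * ws a (-1)`: `e_a ↦ nm t e_a`, `e_{-a} ↦ (nm t)⁻¹ e_{-a}`, `v ↦ (t / σ t) v` on `W = E`. -/
def hs (a : ι ⊕ ι) (t : E) : G := S.ws a t * S.ws a (-1)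

/-- the spin relation: it kills the kernel of `Spin⁻_{2l} → Ω⁻_{2l}` -/
def Spin : Prop := ∀ a : ι ⊕ ι, S.hs a (-1) = 1

/-- The rank one system OVER `E` attached to a short root: `X t = xs a t`, `Y t = xs (ng a) (-σ t)`. -/
def sts (a : ι ⊕ ι) : St E G where
  X c t := if c then S.xs a t else S.xs (ng a) (-(D.σ t))
  add c t u := by
    cases c
    · show S.xs (ng a) (-(D.σ t)) * S.xs (ng a) (-(D.σ u)) = S.xs (ng a) (-(D.σ (t + u)))
      rw [S.adds, map_add, neg_add]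
    · exact S.adds a t u
  rel c t u ht := by
    have hn : ng (ng a) = a := by cases a <;> rfl
    cases c
    · show cj (S.xs (ng a) (-(D.σ t)) * S.xs a (-t⁻¹) * S.xs (ng a) (-(D.σ t))) (S.xs (ng a) (-(D.σ u))) = S.xs a (-(t⁻¹ ^ 2 * u))
      have ht' : -(D.σ t) ≠ 0 := neg_ne_zero.2 (fun h0 => ht (by rw [← D.σσ t, h0, map_zero]))
      have h := S.rels (ng a) (-(D.σ t)) (-(D.σ u)) ht'
      rw [hn] at h
      have e1 : (D.σ (-(D.σ t)))⁻¹ = -t⁻¹ := by rw [map_neg, D.σσ, inv_neg]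
      rw [e1] at h
      rw [h]
      congr 1
      rw [inv_neg, neg_sq, map_mul, map_neg, D.σσ, map_pow, map_inv₀, D.σσ]
      ring
    · show cj (S.xs a t * S.xs (ng a) (-(D.σ (-t⁻¹))) * S.xs a t) (S.xs a u) = S.xs (ng a) (-(D.σ (-(t⁻¹ ^ 2 * u))))
      have e1 : -(D.σ (-t⁻¹)) = (D.σ t)⁻¹ := by rw [map_neg, neg_neg, map_inv₀]
      have e2 : -(D.σ (-(t⁻¹ ^ 2 * u))) = D.σ (t⁻¹ ^ 2 * u) := by rw [map_neg, neg_neg]
      rw [e1, e2]
      exact S.rels a t u ht

/-- `g` acts monomially on the root elements, with permutation `σ` of the signed indices (commuting with `ng`), coefficients `d` (`g e_k = d k • e_{σ k}`, `d k * d (ng k) = 1`)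
and the isometry `v ↦ d0 * tw D ε v` of `W = E` (`d0 * σ d0 = 1`). -/
def IsMon (g : G) (σ : Equiv.Perm (ι ⊕ ι)) (d : ι ⊕ ι → K) (d0 : E) (ε : Bool) : Prop :=
  S.toSysD.IsMon g σ d ∧ (∀ k, σ (ng k) = ng (σ k)) ∧ (∀ k, d k * d (ng k) = 1) ∧ d0 * D.σ d0 = 1 ∧
    ∀ k t, cj g (S.xs k t) = S.xs (σ k) (D.ι (d k) * d0 * tw D ε t)

/-- The subgroup generated by the long root subgroups `x a b` with `Q a b` and the short root subgroups `xs a` with `Qs a`. -/
def XQ (Q : ι ⊕ ι → ι ⊕ ι → Prop) (Qs : ι ⊕ ι → Prop) : Subgroup G :=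
  Subgroup.closure ({g | ∃ a b t, a ≠ b ∧ a ≠ ng b ∧ Q a b ∧ g = S.x a b t} ∪ {g | ∃ a t, Qs a ∧ g = S.xs a t})

variable (o : ι ⊕ ι)

/-- The lower unipotent radical (abelian): generated by the `x a o` and `xs (ng o)` (the roots `e_a - e_o`, `-e_o`). -/
def Yg : Subgroup G := S.XQ (fun _ b => b = o) (fun a => a = ng o)

/-- The subgroup fixing the basis vector `e_o`: the `x a b` with `b ≠ o`, `a ≠ ng o`, the `xs a` with `a ≠ ng o`. -/
def Pg : Subgroup G := S.XQ (fun a b => b ≠ o ∧ a ≠ ng o) (fun a => a ≠ ng o)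

/-- The upper unipotent radical: generated by the `x o b` and `xs o`. -/
def Ag : Subgroup G := S.XQ (fun a _ => a = o) (fun a => a = o)

/-- The Levi factor (type `²D` on the other indices): the `x a b`, `xs a` with `a, b ∉ {o, -o}`. -/
def Lg : Subgroup G := S.XQ (fun a b => (a ≠ o ∧ a ≠ ng o) ∧ (b ≠ o ∧ b ≠ ng o)) (fun a => a ≠ o ∧ a ≠ ng o)

/-- The torus part. -/
def Hg : Subgroup G :=
  Subgroup.closure ({g | ∃ b t, b ≠ o ∧ b ≠ ng o ∧ t ≠ 0 ∧ g = S.h o b t} ∪ {g | ∃ t : E, t ≠ 0 ∧ g = S.hs o t})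

/-- The parabolic subgroup (the stabiliser of the line of `e_o`). -/
def Phat : Subgroup G := S.Pg o ⊔ S.Hg o

/-- The big cell. -/
def cell0 : Set G := {g | ∃ y ∈ S.Yg o, ∃ p ∈ S.Phat o, g = y * p}

/-- The cell attached to `k` (`k ≠ o`, `k ≠ ng o`). -/
def cell (k : ι ⊕ ι) : Set G := {g | ∃ y ∈ S.Yg o, ∃ p ∈ S.Phat o, g = S.w o k 1 * y * p}

/-- The opposite cell (there is the Weyl element `ws o`). -/
def cellN : Set G := {g | ∃ y ∈ S.Yg o, ∃ p ∈ S.Phat o, g = S.ws o 1 * y * p}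

/-- Membership in the union of the cells. -/
def InD (g : G) : Prop :=
  g ∈ S.cell0 o ∨ (∃ k, k ≠ o ∧ k ≠ ng o ∧ g ∈ S.cell o k) ∨ g ∈ S.cellN o

/-- The set of products `a * l * hs o c` (the normal form in the parabolic subgroup, rank one). -/
def ALT : Set G := {g | ∃ a ∈ S.Ag o, ∃ l ∈ S.Lg o, ∃ c : E, c ≠ 0 ∧ g = a * l * S.hs o c}

/-- `n` lies in the parabolic subgroup `Phat o` and normalises `Yg o` -/
def NP (n : G) : Prop := n ∈ S.Phat o ∧ ∀ y ∈ S.Yg o, cj n y ∈ S.Yg o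

/-- the long part of `Yg o`: generated by the `x a o` -/
def Ys : Subgroup G := S.XQ (fun _ b => b = o) (fun _ => False)

/-- `Yg o` without the root subgroup `x j o` (the short root subgroup `xs (ng o)` is still there) -/
def Yj (j : ι ⊕ ι) : Subgroup G := S.XQ (fun a b => b = o ∧ a ≠ j) (fun a => a = ng o)

/-- `Yg o` without the root subgroups `x o' o` and `x (ng o') o` -/
def Yjj (o' : ι ⊕ ι) : Subgroup G := S.XQ (fun a b => b = o ∧ (a ≠ o' ∧ a ≠ ng o')) (fun a => a = ng o)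

/-- the part of the long part of `Yg o` with first index in `T` -/
def YT (T : Set (ι ⊕ ι)) : Subgroup G := S.XQ (fun a b => b = o ∧ a ∈ T) (fun _ => False)

/-- The set of products `a * l * h o j c` (the normal form in the parabolic subgroup, rank at least two). -/
def ALTj (j : ι ⊕ ι) : Set G := {g | ∃ a ∈ S.Ag o, ∃ l ∈ S.Lg o, ∃ c : K, c ≠ 0 ∧ g = a * l * S.h o j c}

/-- A homomorphism to a general linear group sending the root elements to the elementary orthogonal matrices (in the coordinates `C` of `E`). -/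
structure Rep (S : Sys2 D ι G) {a₀ b₀ : K} (C : Co D a₀ b₀) (l : Type*) [Fintype l] [DecidableEq l] where
  e : ι ↪ l
  φ : G →* Matrix.GeneralLinearGroup (Ix2 l) K
  hφ : ∀ a b, a ≠ b → a ≠ ng b → ∀ t,
    ((φ (S.x a b t) : Matrix.GeneralLinearGroup (Ix2 l) K) : Matrix (Ix2 l) (Ix2 l) K) = T2L (Em e a) (Em e b) t
  hφs : ∀ a u,
    ((φ (S.xs a u) : Matrix.GeneralLinearGroup (Ix2 l) K) : Matrix (Ix2 l) (Ix2 l) K) = T2S a₀ b₀ (Em e a) (C.c0 u) (C.c1 u)

/-- the matrix of `g` in a representation -/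
def Rep.M {S : Sys2 D ι G} {a₀ b₀ : K} {C : Co D a₀ b₀} {l : Type*} [Fintype l] [DecidableEq l] (R : S.Rep C l) (g : G) : Matrix (Ix2 l) (Ix2 l) K :=
  ((R.φ g : Matrix.GeneralLinearGroup (Ix2 l) K) : Matrix (Ix2 l) (Ix2 l) K)

end Sys2

/-- coefficients of the short Weyl element `ws a u`: `e_a ↦ -(nm u)⁻¹ e_{-a}`, `e_{-a} ↦ -(nm u) e_a` -/
def dw2 {E K : Type u} [Field E] [Field K] (D : Tw E K) {ι : Type*} [DecidableEq ι] (a : ι ⊕ ι) (u : E) : ι ⊕ ι → K := fun k =>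
  if k = a then -(D.nm u)⁻¹ else if k = ng a then -(D.nm u) else 1

/-- coefficients of the short torus element `hs a u`: `e_a ↦ nm u e_a`, `e_{-a} ↦ (nm u)⁻¹ e_{-a}` -/
def dh2 {E K : Type u} [Field E] [Field K] (D : Tw E K) {ι : Type*} [DecidableEq ι] (a : ι ⊕ ι) (u : E) : ι ⊕ ι → K := fun k =>
  if k = a then D.nm u else if k = ng a then (D.nm u)⁻¹ else 1

/-- the basis vector of an index of the natural module -/
def ev2 {l : Type*} [DecidableEq l] {K : Type*} [Field K] (c : Ix2 l) : Ix2 l → K := Pi.single c 1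

/-- the index of the natural module attached to a signed index of the system -/
abbrev E2 {ι l : Type*} (e : ι ↪ l) (a : ι ⊕ ι) : Ix2 l := Sum.inl (Em e a)

/-- the vector of the anisotropic plane `W` of the natural module attached to an element of `E` (coordinates `C`) -/
def vc {E K : Type u} [Field E] [Field K] {D : Tw E K} {a₀ b₀ : K} (C : Co D a₀ b₀) {l : Type*} [DecidableEq l] (u : E) : Ix2 l → K :=
  Pi.single (Sum.inr 0) (C.c0 u) + Pi.single (Sum.inr 1) (C.c1 u)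

end Cfsg.Agent.Lib.Helper24.ST2
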