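import Mathlib
import Cfsg.Agent.Lib.Helper24.ST2.Defs
import Cfsg.Agent.Lib.Lead.SPN.Defs

/-!
# ST2, definitions part 2: functoriality of `Sys2` (`Sys2.map`, `Sys2.prod`, `Sys2.restrict`), on top of the functoriality of `SysD` in `Lead.SPN.Defs`.  Port of `Lead/STB/Defs2.lean`.
-/

set_option autoImplicit false

namespace Cfsg.Agent.Lib.Helper24.ST2

open Cfsg.Agent.Lib.helper15.St2 Cfsg.Agent.Lib.helper3.STC Cfsg.Agent.Lib.Lead.STD Cfsg.Agent.Lib.Lead.STB Cfsg.Agent.Lib.Helper22.SU4 Cfsg.Agent.Lib.Lead.SPN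

universe u

variable {E K : Type u} [Field E] [Field K] {D : Tw E K} {ι : Type*} {G : Type*} [Group G] {H : Type*} [Group H]

/-- the image of a `Sys2` under a homomorphism -/
def Sys2.map (S : Sys2 D ι G) (f : G →* H) : Sys2 D ι H where
  toSysD := S.toSysD.map f
  xs a t := f (S.xs a t)
  adds a t u := by rw [← map_mul, S.adds]
  comm_ls a c d h1 h2 h3 h4 t u := by
    show f (S.xs a t) * f (S.x c d u) = f (S.x c d u) * f (S.xs a t)
    rw [← map_mul, ← map_mul, S.comm_ls a c d h1 h2 h3 h4]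
  ls a b hab hab' t u := by
    show f (S.x a b t) * f (S.xs b u) * (f (S.x a b t))⁻¹ * (f (S.xs b u))⁻¹ = f (S.xs a (D.ι t * u)) * f (S.x a (ng b) (t * D.nm u))
    rw [← map_inv, ← map_inv, ← map_mul, ← map_mul, ← map_mul, ← map_mul, S.ls a b hab hab']
  ss a b hab hab' t u := by
    show f (S.xs a t) * f (S.xs b u) * (f (S.xs a t))⁻¹ * (f (S.xs b u))⁻¹ = f (S.x a (ng b) (-(D.tr (t * D.σ u))))
    rw [← map_inv, ← map_inv, ← map_mul, ← map_mul, ← map_mul, S.ss a b hab hab']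
  rels a t u ht := by
    rw [← map_mul, ← map_mul, ← map_cj, S.rels a t u ht]

theorem Sys2.map_x (S : Sys2 D ι G) (f : G →* H) (a b : ι ⊕ ι) (t : K) : (S.map f).x a b t = f (S.x a b t) := rfl

theorem Sys2.map_xs (S : Sys2 D ι G) (f : G →* H) (a : ι ⊕ ι) (t : E) : (S.map f).xs a t = f (S.xs a t) := rfl

theorem Sys2.map_toSysD (S : Sys2 D ι G) (f : G →* H) : (S.map f).toSysD = S.toSysD.map f := rfl

theorem Sys2.map_w (S : Sys2 D ι G) (f : G →* H) (a b : ι ⊕ ι) (t : K) : (S.map f).w a b t = f (S.w a b t) :=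
  SysD.map_w S.toSysD f a b t

theorem Sys2.map_h (S : Sys2 D ι G) (f : G →* H) (a b : ι ⊕ ι) (t : K) : (S.map f).h a b t = f (S.h a b t) :=
  SysD.map_h S.toSysD f a b t

theorem Sys2.map_ws (S : Sys2 D ι G) (f : G →* H) (a : ι ⊕ ι) (t : E) : (S.map f).ws a t = f (S.ws a t) := by
  unfold Sys2.ws
  rw [map_mul, map_mul]
  rfl

theorem Sys2.map_hs (S : Sys2 D ι G) (f : G →* H) (a : ι ⊕ ι) (t : E) : (S.map f).hs a t = f (S.hs a t) := by
  unfold Sys2.hs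
  rw [map_mul, Sys2.map_ws, Sys2.map_ws]

/-- the product of two `Sys2` -/
def Sys2.prod (S : Sys2 D ι G) (T : Sys2 D ι H) : Sys2 D ι (G × H) where
  toSysD := S.toSysD.prod T.toSysD
  xs a t := (S.xs a t, T.xs a t)
  adds a t u := by rw [Prod.mk_mul_mk, S.adds, T.adds]
  comm_ls a c d h1 h2 h3 h4 t u := by
    show (S.xs a t, T.xs a t) * (S.x c d u, T.x c d u) = (S.x c d u, T.x c d u) * (S.xs a t, T.xs a t)
    rw [Prod.mk_mul_mk, Prod.mk_mul_mk, S.comm_ls a c d h1 h2 h3 h4, T.comm_ls a c d h1 h2 h3 h4]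
  ls a b hab hab' t u := by
    show (S.x a b t, T.x a b t) * (S.xs b u, T.xs b u) * (S.x a b t, T.x a b t)⁻¹ * (S.xs b u, T.xs b u)⁻¹ =
      (S.xs a (D.ι t * u), T.xs a (D.ι t * u)) * (S.x a (ng b) (t * D.nm u), T.x a (ng b) (t * D.nm u))
    rw [Prod.inv_mk, Prod.inv_mk, Prod.mk_mul_mk, Prod.mk_mul_mk, Prod.mk_mul_mk, Prod.mk_mul_mk, S.ls a b hab hab', T.ls a b hab hab']
  ss a b hab hab' t u := by
    show (S.xs a t, T.xs a t) * (S.xs b u, T.xs b u) * (S.xs a t, T.xs a t)⁻¹ * (S.xs b u, T.xs b u)⁻¹ =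
      (S.x a (ng b) (-(D.tr (t * D.σ u))), T.x a (ng b) (-(D.tr (t * D.σ u))))
    rw [Prod.inv_mk, Prod.inv_mk, Prod.mk_mul_mk, Prod.mk_mul_mk, Prod.mk_mul_mk, S.ss a b hab hab', T.ss a b hab hab']
  rels a t u ht := by
    have h1 := S.rels a t u ht
    have h2 := T.rels a t u ht
    unfold cj at h1 h2 ⊢
    simp only [Prod.mk_mul_mk, Prod.inv_mk]
    rw [h1, h2]

theorem Sys2.prod_x (S : Sys2 D ι G) (T : Sys2 D ι H) (a b : ι ⊕ ι) (t : K) : (S.prod T).x a b t = (S.x a b t, T.x a b t) := rfl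

theorem Sys2.prod_xs (S : Sys2 D ι G) (T : Sys2 D ι H) (a : ι ⊕ ι) (t : E) : (S.prod T).xs a t = (S.xs a t, T.xs a t) := rfl

/-- the restriction of a `Sys2` to a subgroup containing the root elements -/
def Sys2.restrict (S : Sys2 D ι G) (L : Subgroup G) (hL : ∀ a b t, S.x a b t ∈ L) (hLs : ∀ a t, S.xs a t ∈ L) : Sys2 D ι L where
  toSysD := S.toSysD.restrict L hL
  xs a t := ⟨S.xs a t, hLs a t⟩
  adds a t u := Subtype.ext (S.adds a t u)
  comm_ls a c d h1 h2 h3 h4 t u := Subtype.ext (S.comm_ls a c d h1 h2 h3 h4 t u)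
  ls a b hab hab' t u := Subtype.ext (S.ls a b hab hab' t u)
  ss a b hab hab' t u := Subtype.ext (S.ss a b hab hab' t u)
  rels a t u ht := Subtype.ext (S.rels a t u ht)

theorem Sys2.restrict_x (S : Sys2 D ι G) (L : Subgroup G) (hL : ∀ a b t, S.x a b t ∈ L) (hLs : ∀ a t, S.xs a t ∈ L) (a b : ι ⊕ ι) (t : K) :
    (((S.restrict L hL hLs).x a b t : L) : G) = S.x a b t := rfl

theorem Sys2.restrict_xs (S : Sys2 D ι G) (L : Subgroup G) (hL : ∀ a b t, S.x a b t ∈ L) (hLs : ∀ a t, S.xs a t ∈ L) (a : ι ⊕ ι) (t : E) :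
    (((S.restrict L hL hLs).xs a t : L) : G) = S.xs a t := rfl

end Cfsg.Agent.Lib.Helper24.ST2
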